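import Groth.Agent.Lib.AlgSpace.EtaleApps
import Groth.Agent.Lib.AlgSpace.Proper
import Groth.Agent.Lib.AlgSpace.UI
import Groth.Agent.Lib.TopInv15.Full

/-!
# Sections of etale morphisms from sections on two universally closed pieces
-/

universe u

set_option backward.isDefEq.respectTransparency.types false

open CategoryTheory CategoryTheory.Limits AlgebraicGeometry
open AlgSp Groth.Agent.AlgSpace Groth.Agent.AlgSpDecent

noncomputable section

namespace Groth.Agent.EtModif25

variable {S : Scheme.{u}}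

/-- The spectrum of a field over the base. -/
abbrev fld {K : Type u} [Field K] (str : Spec (CommRingCat.of K) ⟶ S) : Sp S := (yon S).obj (Over.mk str)

/-- The points of a field-valued map. -/
theorem range_fld {F : Sp S} {K : Type u} [Field K] {str : Spec (CommRingCat.of K) ⟶ S} (a : fld str ⟶ F) :
    ∀ z z', Points.map a z = Points.map a z' := fun z z' => by
  obtain ⟨t, rfl⟩ := (Points.schemeEquiv (Over.mk str)).surjective z
  obtain ⟨t', rfl⟩ := (Points.schemeEquiv (Over.mk str)).surjective z'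
  have : Subsingleton ↥(Over.mk str).left := inferInstanceAs (Subsingleton (PrimeSpectrum K))
  rw [Subsingleton.elim t t']

instance {K : Type u} [Field K] (str : Spec (CommRingCat.of K) ⟶ S) : Nonempty (Points (fld str)) :=
  ⟨Points.schemeEquiv (Over.mk str) (IsLocalRing.closedPoint K)⟩

/-- Field-valued points factor through monomorphisms containing their point. -/
theorem exists_factor_fld {Z F : Sp S} {i : Z ⟶ F} [Mono i] (hi : Representable i) {K : Type u} [Field K]
    {str : Spec (CommRingCat.of K) ⟶ S} (a : fld str ⟶ F) {z : Points (fld str)}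
    (h : Points.map a z ∈ Set.range (Points.map i)) : ∃ l : fld str ⟶ Z, l ≫ i = a := by
  have sq := hi.isPullback a
  obtain ⟨w, -⟩ := mem_range_map_fst sq.flip z h
  obtain ⟨t, -⟩ := (Points.schemeEquiv (hi.pullback a)).surjective w
  have : Nonempty ↥(hi.pullback a).left := ⟨t⟩
  have : Mono ((yon S).map (hi.snd a)) := sq.mono_snd_of_mono
  have : Mono (hi.snd a) := (yon S).mono_of_mono_map this
  have : Mono (hi.snd a).left := inferInstanceAs (Mono ((Over.forget S).map (hi.snd a)))
  have : IsIso ((Over.forget S).map (hi.snd a)) := isIso_of_mono_field (hi.snd a).left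
  have : IsIso (hi.snd a) := isIso_of_reflects_iso (hi.snd a) (Over.forget S)
  refine ⟨(yon S).map (inv (hi.snd a)) ≫ hi.fst a, ?_⟩
  rw [Category.assoc, sq.w, ← Functor.map_comp_assoc, IsIso.inv_hom_id]
  erw [(yon S).map_id]
  rw [Category.id_comp]

variable {P X A B : Sp S}

/-- The part of `P` where the given section over a piece is missed. -/
def bad (π : P ⟶ X) (c : A ⟶ X) (σ : A ⟶ P) (hσ : σ ≫ π = c) : Set (Points P) :=
  Points.map (pullback.fst π c) ''
    (Set.range (Points.map (pullback.lift σ (𝟙 A) (by rw [hσ, Category.id_comp]) : A ⟶ pullback π c)))ᶜ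

section

variable (hP : IsAlgSpace P) (hX : IsAlgSpace X) (hA : IsAlgSpace A) {π : P ⟶ X} (hπ : IsEtaleMor π)
  {c : A ⟶ X} {σ : A ⟶ P} (hσ : σ ≫ π = c)

include hP hX hA hπ in
theorem repWith_section :
    RepWith @IsOpenImmersion (pullback.lift σ (𝟙 A) (by rw [hσ, Category.id_comp]) : A ⟶ pullback π c) := by
  have sq := IsPullback.of_hasPullback π c
  let s : A ⟶ pullback π c := pullback.lift σ (𝟙 A) (by rw [hσ, Category.id_comp])
  have hs : s ≫ pullback.snd π c = 𝟙 A := pullback.lift_snd _ _ _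
  have hG : IsAlgSpace (pullback π c) := isAlgSpace_pullback hX hP hA sq
  have hsnd : IsEtaleMor (pullback.snd π c) := AlgSpDescent.isEtaleMor_of_locP_etale hG hA
    (locP_of_isPullback hP hX hA sq (AlgSpDescent.locP_etale_of_isEtaleMor hπ))
  have hse : IsEtaleMor s := AlgSpDescent.isEtaleMor_of_locP_etale hA hG
    (AlgSpDescent.locP_etale_of_comp hA hG hA (by rw [hs]; exact locP_id hA)
      (AlgSpDescent.locP_etale_of_isEtaleMor hsnd))
  have : IsSplitMono s := ⟨⟨⟨pullback.snd π c, hs⟩⟩⟩
  exact repWith_openImmersion_of_isEtaleMor_mono hA hG s hse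

include hP hX hA hπ in
theorem isClosed_bad (hc : IsUnivClosedMor c) : IsClosed (bad π c σ hσ) :=
  hc hP π (pullback.snd π c) (pullback.fst π c) (IsPullback.of_hasPullback π c).flip _
    (isOpen_range_map_of_openImmersion (repWith_section hP hX hA hπ hσ)).isClosed_compl

include hP hX hA hπ in
theorem eq_of_not_mem_bad {K : Type u} [Field K] {str : Spec (CommRingCat.of K) ⟶ S} (α : fld str ⟶ P)
    (a : fld str ⟶ A) (ha : a ≫ c = α ≫ π) (z : Points (fld str)) (h : Points.map α z ∉ bad π c σ hσ) :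
    α = a ≫ σ := by
  let x := pullback.lift α a ha.symm
  obtain ⟨l, hl⟩ := exists_factor_of_range (repWith_section hP hX hA hπ hσ) x (by
    rintro _ ⟨z', rfl⟩
    by_contra hx
    refine h ⟨_, hx, ?_⟩
    rw [← Points.map_comp, pullback.lift_fst]
    exact range_fld α z' z)
  have h₁ := hl =≫ pullback.fst π c
  have h₂ := hl =≫ pullback.snd π c
  simp only [x, Category.assoc, pullback.lift_fst, pullback.lift_snd, Category.comp_id] at h₁ h₂
  rw [← h₁, h₂]

theorem not_mem_bad {B : Sp S} (τ : B ⟶ P) (q : FieldPt B)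
    (h : ∀ (Ω : Type u) [Field Ω] (w : Spec (CommRingCat.of Ω) ⟶ S) (a : fld w ⟶ A) (b : fld w ⟶ B),
      a ≫ c = b ≫ τ ≫ π → b ≫ τ = a ≫ σ) :
    Points.map τ (Points.mk q) ∉ bad π c σ hσ := by
  rintro ⟨x, hx, e⟩
  induction x using Points.ind with
  | h r =>
  rw [Points.map_mk, Points.map_mk] at e
  obtain ⟨Ω, _, w, d, g, hdg⟩ := exists_common_of_mk_eq e
  rw [FieldPt.toHom_map, FieldPt.toHom_map] at hdg
  change Over.mk w ⟶ r.pt at d
  change Over.mk w ⟶ q.pt at g
  let x' := (yon S).map d ≫ r.toHom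
  let a := x' ≫ pullback.snd π c
  let b := (yon S).map g ≫ q.toHom
  have hab : x' ≫ pullback.fst π c = b ≫ τ := by simp only [x', b, Category.assoc]; exact hdg
  have e₁ : b ≫ τ = a ≫ σ := h Ω w a b (by
    rw [← Category.assoc b, ← hab]
    simp only [a, Category.assoc, pullback.condition])
  have e₂ : x' = a ≫ pullback.lift σ (𝟙 A) (by rw [hσ, Category.id_comp]) := by
    apply pullback.hom_ext
    · simp only [Category.assoc, pullback.lift_fst]
      exact hab.trans e₁
    · simp only [Category.assoc, pullback.lift_snd, Category.comp_id]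
      rfl
  apply hx
  obtain ⟨z⟩ := (inferInstance : Nonempty (Points (fld w)))
  refine ⟨Points.map a z, ?_⟩
  rw [← Points.map_comp, ← e₂, Points.map_comp]
  exact map_toHom_eq r _

end

/-- A section of an etale morphism is given uniquely by compatible sections over two universally closed pieces
which cover the field-valued points. -/
theorem existsUnique_section (hP : IsAlgSpace P) (hX : IsAlgSpace X) (hA : IsAlgSpace A) (hB : IsAlgSpace B)
    {π : P ⟶ X} (hπ : IsEtaleMor π) {cA : A ⟶ X} {cB : B ⟶ X} (hcA : IsUnivClosedMor cA)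
    (hcB : IsUnivClosedMor cB) (σA : A ⟶ P) (hσA : σA ≫ π = cA) (σB : B ⟶ P) (hσB : σB ≫ π = cB)
    (hcov : ∀ (K : Type u) [Field K] (str : Spec (CommRingCat.of K) ⟶ S) (x : fld str ⟶ X),
      (∃ a, a ≫ cA = x) ∨ (∃ b, b ≫ cB = x))
    (hAA : ∀ (K : Type u) [Field K] (str : Spec (CommRingCat.of K) ⟶ S) (a a' : fld str ⟶ A),
      a ≫ cA = a' ≫ cA → a ≫ σA = a' ≫ σA)
    (hBB : ∀ (K : Type u) [Field K] (str : Spec (CommRingCat.of K) ⟶ S) (b b' : fld str ⟶ B),
      b ≫ cB = b' ≫ cB → b ≫ σB = b' ≫ σB)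
    (hAB : ∀ (K : Type u) [Field K] (str : Spec (CommRingCat.of K) ⟶ S) (a : fld str ⟶ A) (b : fld str ⟶ B),
      a ≫ cA = b ≫ cB → a ≫ σA = b ≫ σB) :
    ∃! m : X ⟶ P, m ≫ π = 𝟙 X ∧ cA ≫ m = σA ∧ cB ≫ m = σB := by
  let W : Set (Points P) := (bad π cA σA hσA ∪ bad π cB σB hσB)ᶜ
  have hW : IsOpen W := ((isClosed_bad hP hX hA hπ hσA hcA).union
    (isClosed_bad hP hX hB hπ hσB hcB)).isOpen_compl
  have rA : Set.range (Points.map σA) ⊆ W := by
    rintro _ ⟨x, rfl⟩
    induction x using Points.ind with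
    | h q =>
    rintro (h | h)
    · exact not_mem_bad hσA σA q (fun Ω _ w a b e =>
        (hAA Ω w a b (by rw [e, hσA])).symm) h
    · exact not_mem_bad hσB σA q (fun Ω _ w b a e =>
        hAB Ω w a b (by rw [e, hσA])) h
  have rB : Set.range (Points.map σB) ⊆ W := by
    rintro _ ⟨x, rfl⟩
    induction x using Points.ind with
    | h q =>
    rintro (h | h)
    · exact not_mem_bad hσA σB q (fun Ω _ w a b e =>
        (hAB Ω w a b (by rw [e, hσB])).symm) h
    · exact not_mem_bad hσB σB q (fun Ω _ w a b e =>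
        (hBB Ω w a b (by rw [e, hσB])).symm) h
  obtain ⟨lA, hlA⟩ := exists_factor_openSub σA rA
  obtain ⟨lB, hlB⟩ := exists_factor_openSub σB rB
  have hι := repWith_openSubι hW
  have hO : IsAlgSpace (openSub W) := isAlgSpace_of_representable hι.1 hP
  let j := openSubι W ≫ π
  have hje : IsEtaleMor j := AlgSpDescent.isEtaleMor_of_locP_etale hO hX
    (locP_comp hO hP hX (locP_of_repWith hP (repWith_mono (fun _ _ k hk => by
      have : IsOpenImmersion k := hk
      infer_instance) hι)) (AlgSpDescent.locP_etale_of_isEtaleMor hπ))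
  have key : ∀ (K : Type u) [Field K] (str : Spec (CommRingCat.of K) ⟶ S) (α : fld str ⟶ openSub W),
      (∀ a, a ≫ cA = α ≫ j → α ≫ openSubι W = a ≫ σA) ∧
        (∀ b, b ≫ cB = α ≫ j → α ≫ openSubι W = b ≫ σB) := fun K _ str α => by
    obtain ⟨z⟩ := (inferInstance : Nonempty (Points (fld str)))
    have hz : Points.map (α ≫ openSubι W) z ∈ W := by
      rw [Points.map_comp]
      exact (range_openSubι W).le ⟨_, rfl⟩
    exact ⟨fun a ha => eq_of_not_mem_bad hP hX hA hπ hσA _ a (by rw [ha, Category.assoc]) z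
        fun h => hz (Or.inl h),
      fun b hb => eq_of_not_mem_bad hP hX hB hπ hσB _ b (by rw [hb, Category.assoc]) z
        fun h => hz (Or.inr h)⟩
  have : Mono j := mono_of_isEtaleMor_univInjective hO hX j hje
    (isUnivInjectiveMor_of_fieldPts fun K _ str α β e => by
      change α ≫ j = β ≫ j at e
      rw [← cancel_mono (openSubι W)]
      rcases hcov K str (α ≫ j) with ⟨a, ha⟩ | ⟨b, hb⟩
      · rw [(key K str α).1 a ha, (key K str β).1 a (ha.trans e)]
      · rw [(key K str α).2 b hb, (key K str β).2 b (hb.trans e)])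
  have hj : RepWith @IsOpenImmersion j := repWith_openImmersion_of_isEtaleMor_mono hO hX j hje
  have hjA : lA ≫ j = cA := by rw [reassoc_of% hlA, hσA]
  have hjB : lB ≫ j = cB := by rw [reassoc_of% hlB, hσB]
  have : IsIso j := isIso_of_isOpenImmersion_of_surjective hj fun x => by
    induction x using Points.ind with
    | h p =>
    obtain ⟨z, hz⟩ := exists_map_toHom_eq p
    rcases hcov p.K p.str p.toHom with ⟨a, ha⟩ | ⟨b, hb⟩
    · exact ⟨Points.map (a ≫ lA) z, by rw [← Points.map_comp, Category.assoc, hjA, ha, hz]⟩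
    · exact ⟨Points.map (b ≫ lB) z, by rw [← Points.map_comp, Category.assoc, hjB, hb, hz]⟩
  refine ⟨inv j ≫ openSubι W, ⟨?_, ?_, ?_⟩, fun m hm => ?_⟩
  · rw [Category.assoc]
    exact IsIso.inv_hom_id j
  · rw [← Category.assoc, show cA ≫ inv j = lA by rw [IsIso.comp_inv_eq, hjA], hlA]
  · rw [← Category.assoc, show cB ≫ inv j = lB by rw [IsIso.comp_inv_eq, hjB], hlB]
  · obtain ⟨l, hl⟩ := exists_factor_openSub (W := W) m (by
      rintro _ ⟨x, rfl⟩
      induction x using Points.ind with
      | h p =>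
      obtain ⟨z, hz⟩ := exists_map_toHom_eq p
      rw [← hz, ← Points.map_comp]
      rcases hcov p.K p.str p.toHom with ⟨a, ha⟩ | ⟨b, hb⟩
      · rw [← ha, Category.assoc, hm.2.1, Points.map_comp]; exact rA ⟨_, rfl⟩
      · rw [← hb, Category.assoc, hm.2.2, Points.map_comp]; exact rB ⟨_, rfl⟩)
    rw [← hl]
    congr 1
    rw [← cancel_mono j, IsIso.inv_hom_id, reassoc_of% hl]
    exact hm.1

end Groth.Agent.EtModif25
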